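import Cfsg.Agent.H831.EPV.M23
import Cfsg.Agent.H568.EP.Big
import Cfsg.Agent.H568.EP.Bound
import Cfsg.Agent.J3.Simple
import Cfsg.Agent.S2067

/-!
# S3499-V, the sporadic row `soc(A) = J3` (helper568)
-/

set_option autoImplicit false

namespace Cfsg.Agent.H568.EP

open Subgroup Cfsg Cfsg.Agent.OrdDiv Cfsg.Agent.H284 Cfsg.Agent.H419.EP Cfsg.Agent.H59.EP Cfsg.Agent.H436

universe u

/-- `|Aut L| ≤ 2 |L|` when `|Out L| = 2` -/
theorem card_mulAut_le {L : Type*} [Group L] [Finite L] (h : Nat.card (Cfsg.Out L) = 2) :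
    Nat.card (MulAut L) ≤ 2 * Nat.card L := by
  have h1 := Subgroup.card_eq_card_quotient_mul_card_subgroup (MulAut.conj : L →* MulAut L).range
  have h2 : Nat.card (MulAut.conj : L →* MulAut L).range ≤ Nat.card L :=
    Nat.card_le_card_of_surjective _ (MonoidHom.rangeRestrict_surjective _)
  rw [h1]
  exact Nat.mul_le_mul (le_of_eq h) h2

theorem j3_facts {L : Type*} [Group L] (h : Spor.IsoJ3 L) : Nat.card L = 50232960 ∧ IsSimpleGroup L ∧
    Nat.card (MulAut L) ≤ 2 * 50232960 := by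
  obtain ⟨F, _, _, ω, hF, hω, ⟨e⟩⟩ := h
  have hg : Cfsg.Agent.J3.Core.Good ω := Cfsg.Agent.J3.Core.good_of_card hF hω
  have h1 := Cfsg.Agent.J3.Simple.card_J3 hF hg
  have h2 := Cfsg.Agent.J3.Simple.simple_J3 hF hg
  have h3 := S2067.result hF ω hω
  have : Finite (Spor.J3 F ω) := Nat.finite_of_card_ne_zero (by rw [h1]; norm_num)
  refine ⟨by rw [Nat.card_congr e.toEquiv, h1], e.isSimpleGroup, ?_⟩
  rw [Nat.card_congr (MulAut.congr e).toEquiv, ← h1]
  exact card_mulAut_le h3

theorem noncomm_of {L : Type*} [Group L] [Finite L] (hs : IsSimpleGroup L) (hc : ¬ (Nat.card L).Prime) :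
    ¬ ∀ a b : L, a * b = b * a := by
  intro hcomm
  apply hc
  let _ : CommGroup L := { (inferInstance : Group L) with mul_comm := hcomm }
  exact IsSimpleGroup.prime_card

/-- the upper bound -/
theorem j3_card {Q : Type u} [Group Q] [Finite Q] {A : Subgroup Q} {Γ : Subgroup (MulAut Q)} (hg : TwoGen.{u})
    (hs : IsSimpleGroup Q) (h : EPT A Γ) {L : Type*} [Group L] (hsoc : HasSoc A L) (hL : Spor.IsoJ3 L) :
    Nat.card Q < 2 ^ 102 := by
  obtain ⟨h1, h2, h3⟩ := j3_facts hL
  have hfin : Finite L := Nat.finite_of_card_ne_zero (by rw [h1]; norm_num)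
  have hnc := noncomm_of h2 (by rw [h1]; norm_num)
  obtain ⟨k, hk⟩ := hsoc.card_dvd
  have hle := hsoc.card_le
  have hpos : 0 < Nat.card A := Nat.card_pos
  have hab := fun K h1 h3 h4 => hsoc.no_abelian (K := K) h2 hnc h1 h3 h4
  rw [h1] at hk
  have hk12 : k = 1 ∨ k = 2 := by omega
  have key : ∀ c : ℕ, Nat.card A = c → ∀ l : List (ℕ × ℕ), (∀ x ∈ l, x.1.Prime ∧ 0 < x.2) → (l.map Prod.fst).Nodup →
      (∀ x ∈ l, 5 ≤ x.1 → x.2 = 1) → c = (l.map fun x => x.1 ^ x.2).prod →
      c * (1 + ((l.map fun x : ℕ × ℕ => gal x.1 x.2).sum * (c / 6) + c ^ 2 / 60) * (2 * (c / 6))) < 2 ^ 102 →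
      Nat.card Q < 2 ^ 102 := by
    intro c hc l l1 l2 l3 l4 l5
    have h5 := H831.EPV.index_le_two hg hs h hab l l1 l2 l3 (hc.trans l4)
    rw [hc] at h5
    rw [← A.card_mul_index, hc]
    exact lt_of_le_of_lt (Nat.mul_le_mul_left _ h5) l5
  rcases hk12 with rfl | rfl
  · exact key 50232960 (by omega) [(2, 7), (3, 5), (5, 1), (17, 1), (19, 1)] (by decide +kernel) (by decide +kernel)
      (by decide +kernel) (by decide +kernel) (by decide +kernel)
  · exact key 100465920 (by omega) [(2, 8), (3, 5), (5, 1), (17, 1), (19, 1)] (by decide +kernel) (by decide +kernel)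
      (by decide +kernel) (by decide +kernel) (by decide +kernel)

section

variable {Q : Type} [Group Q] [Finite Q] {A : Subgroup Q} {Γ : Subgroup (MulAut Q)} {ι : Type} [Fintype ι]
  [DecidableEq ι] {F : Type} [Field F] [Fintype F] {S P : Subgroup (GL ι F)}

/-- `2 ^ 117 ≤ |Q|`, except for `Ω₁₄(2)` -/
theorem big_or (b : Big A Γ S P) : 2 ^ 117 ≤ Nat.card Q ∨ IsNamed (.oplus 7 2) Q ∨ IsNamed (.ominus 7 2) Q := by
  have hn := b.thirteen
  have hF : 2 ≤ Fintype.card F := b.two_le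
  rcases b.kind with ⟨-, ho, -, -, -⟩ | ⟨f, -, -, h3, ho, -, -⟩ | ⟨q, hq, σ, f, -, -, -, ho, -, -⟩ |
    ⟨Qf, hQ, hS, ho, -⟩
  · left
    refine le_trans ?_ ho
    refine (Nat.pow_le_pow_left hF 117).trans (Nat.pow_le_pow_right (by omega) ?_)
    have : 13 ^ 2 ≤ Fintype.card ι ^ 2 := Nat.pow_le_pow_left hn 2
    omega
  · left
    have h4 : 13 * (13 + 1) / 2 ≤ Fintype.card ι * (Fintype.card ι + 1) / 2 :=
      Nat.div_le_div_right (Nat.mul_le_mul hn (by omega))
    have h5 : 3 ^ 91 ≤ 4 * Nat.card Q :=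
      le_trans ((Nat.pow_le_pow_left h3 91).trans (Nat.pow_le_pow_right (by omega) (by omega))) ho
    have h6 : 4 * 2 ^ 117 ≤ 3 ^ 91 := by norm_num
    omega
  · left
    have hq2 : 2 ≤ q := by
      by_contra hcon
      have : q = 0 ∨ q = 1 := by omega
      rcases this with rfl | rfl <;> (simp at hq; try omega)
    refine le_trans ?_ ho
    refine (Nat.pow_le_pow_left hq2 117).trans (Nat.pow_le_pow_right (by omega) ?_)
    have : 13 ^ 2 ≤ Fintype.card ι ^ 2 := Nat.pow_le_pow_left hn 2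
    omega
  · by_cases h2 : Fintype.card F = 2
    · obtain ⟨m⟩ : Nonempty (Model Q (Cfsg.Geo.omegaGL Qf)) := ⟨hS ▸ b.m⟩
      have hsm : ∀ k, Fintype.card ι = 2 * k → k ≠ 7 → 2 ^ 117 ≤ Nat.card Q := by
        intro k hk h7
        have h8 : 16 ≤ Fintype.card ι := by omega
        have h5 := b.ord_two h8
        have h6 : 8 * 2 ^ 117 ≤ 2 ^ (16 * (16 - 1) / 2) := by norm_num
        omega
      rcases om_named hQ (by omega) m with ⟨k, hk, h⟩ | ⟨k, hk, h | h⟩
      · exfalso
        have := h.cond.2.1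
        rw [h2] at this
        exact absurd this (by decide)
      · by_cases h7 : k = 7
        · right; left
          rw [h2, h7] at h
          exact h
        · exact Or.inl (hsm k hk h7)
      · by_cases h7 : k = 7
        · right; right
          rw [h2, h7] at h
          exact h
        · exact Or.inl (hsm k hk h7)
    · left
      have h3 : 3 ≤ Fintype.card F := by omega
      have h4 : 13 * (13 - 1) / 2 ≤ Fintype.card ι * (Fintype.card ι - 1) / 2 :=
        Nat.div_le_div_right (Nat.mul_le_mul hn (by omega))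
      have h5 : 3 ^ 78 ≤ 8 * Nat.card Q :=
        le_trans ((Nat.pow_le_pow_left h3 78).trans (Nat.pow_le_pow_right (by omega) (by omega))) ho
      have h6 : 8 * 2 ^ 117 ≤ 3 ^ 78 := by norm_num
      omega

/-- **The row `J3`.** -/
theorem j3 (hg : TwoGen.{0}) (b : Big A Γ S P) (h : Spor.IsoJ3 (socle P)) : False := by
  have h1 := j3_card hg b.simple b.ept b.hasSoc h
  have h19 : 19 ∣ Nat.card Q := by
    have h2 := b.hasSoc.card_dvd
    rw [(j3_facts h).1] at h2
    exact (by norm_num : 19 ∣ 50232960).trans (h2.trans (Subgroup.card_subgroup_dvd_card A))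
  rcases big_or b with h2 | h2 | h2
  · have : (2 : ℕ) ^ 102 ≤ 2 ^ 117 := by norm_num
    omega
  · rw [h2.ord] at h19
    revert h19
    decide +kernel
  · rw [h2.ord] at h19
    revert h19
    decide +kernel

end

end Cfsg.Agent.H568.EP
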