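import Cfsg.Agent.H568.EP.Num

/-!
# S3499: sharper lower bounds for the order polynomials of `GL_n(q)` and `GU_n(q)` (helper568)
-/

set_option autoImplicit false

namespace Cfsg.Agent.H568.EP

open Cfsg.Agent.OrdDiv

/-- `∏_{i ≤ n} (q ^ i - 1)` -/
def prG (q n : ℕ) : ℕ := ∏ i ∈ Finset.range n, (q ^ (i + 1) - 1)

theorem glN_eq (q n : ℕ) : glN n q = q ^ (∑ i ∈ Finset.range n, i) * prG q n := by
  unfold glN prG
  rw [prod_list, ← Finset.prod_pow_eq_pow_sum, ← Finset.prod_range_reflect (fun i => q ^ (i + 1) - 1) n,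
    ← Finset.prod_mul_distrib]
  refine Finset.prod_congr rfl fun i hi => ?_
  rw [Finset.mem_range] at hi
  rw [Nat.mul_sub, mul_one, ← pow_add]
  congr 2
  omega

theorem prG_aux {q : ℕ} (hq : 2 ≤ q) (n : ℕ) :
    q ^ (∑ i ∈ Finset.range (n + 2), i) * ((q - 1) * ((q - 1) * q ^ (n + 1) + q)) ≤ prG q (n + 1) * q ^ (n + 1) * q ^ 2 := by
  induction n with
  | zero =>
    simp only [prG, Finset.sum_range_succ, Finset.range_zero, Finset.sum_empty, Finset.prod_range_succ, Finset.prod_empty]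
    obtain ⟨d, rfl⟩ : ∃ d, q = d + 1 := ⟨q - 1, by omega⟩
    simp only [Nat.add_sub_cancel, zero_add, pow_one, one_mul, pow_zero]
    apply le_of_eq; ring
  | succ n ih =>
    have e1 : prG q (n + 1 + 1) = prG q (n + 1) * (q ^ (n + 1) * q - 1) := by
      unfold prG
      rw [Finset.prod_range_succ _ (n + 1), ← pow_succ]
    have e2 : q ^ (∑ i ∈ Finset.range (n + 1 + 2), i) = q ^ (∑ i ∈ Finset.range (n + 2), i) * (q ^ (n + 1) * q) := by
      rw [Finset.sum_range_succ _ (n + 2), pow_add, ← pow_succ]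
    rw [e1, e2, pow_succ q (n + 1)]
    have hX : q ≤ q ^ (n + 1) := Nat.le_self_pow (by omega) q
    generalize q ^ (n + 1) = X at *
    generalize q ^ (∑ i ∈ Finset.range (n + 2), i) = R at *
    generalize prG q (n + 1) = G at *
    obtain ⟨D, rfl⟩ : ∃ D, q = D + 1 := ⟨q - 1, by omega⟩
    simp only [Nat.add_sub_cancel] at *
    have hD : 1 ≤ D := by omega
    obtain ⟨Z, hZ⟩ : ∃ Z, X * (D + 1) = Z + 1 := ⟨X * (D + 1) - 1, by
      have : 1 ≤ X * (D + 1) := Nat.one_le_iff_ne_zero.2 (Nat.mul_ne_zero (by omega) (by omega))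
      omega⟩
    rw [hZ, Nat.add_sub_cancel]
    -- divide by `Z + 1`
    have key : R * (D * (D * (Z + 1) + (D + 1))) ≤ G * Z * (D + 1) ^ 2 := by
      have h1 : X * (R * (D * (D * (Z + 1) + (D + 1)))) ≤ X * (G * Z * (D + 1) ^ 2) := by
        have h2 : R * (D * (D * X + (D + 1))) * Z ≤ G * X * (D + 1) ^ 2 * Z := Nat.mul_le_mul_right _ ih
        have h3 : X * (D * (Z + 1) + (D + 1)) ≤ (D * X + (D + 1)) * Z := by
          -- `D X + X (D + 1) ≤ (D + 1) Z`, i.e. `(D + 1) (Z + 1)`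
          have h4 : D * X + X * (D + 1) ≤ (D + 1) * Z := by
            have h5 : (D + 1) * (Z + 1) = X * (D + 1) * (D + 1) := by rw [← hZ]; ring
            have h6 : D * X + X * (D + 1) + (D + 1) ≤ X * (D + 1) * (D + 1) := by nlinarith
            have h7 : (D + 1) * (Z + 1) = (D + 1) * Z + (D + 1) := by ring
            omega
          calc X * (D * (Z + 1) + (D + 1)) = D * X * Z + (D * X + X * (D + 1)) := by ring
            _ ≤ D * X * Z + (D + 1) * Z := Nat.add_le_add_left h4 _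
            _ = (D * X + (D + 1)) * Z := by ring
        calc X * (R * (D * (D * (Z + 1) + (D + 1)))) = R * D * (X * (D * (Z + 1) + (D + 1))) := by ring
          _ ≤ R * D * ((D * X + (D + 1)) * Z) := Nat.mul_le_mul_left _ h3
          _ = R * (D * (D * X + (D + 1))) * Z := by ring
          _ ≤ G * X * (D + 1) ^ 2 * Z := h2
          _ = X * (G * Z * (D + 1) ^ 2) := by ring
      exact Nat.le_of_mul_le_mul_left h1 (by omega)
    calc R * (Z + 1) * (D * (D * (Z + 1) + (D + 1))) = R * (D * (D * (Z + 1) + (D + 1))) * (Z + 1) := by ring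
      _ ≤ G * Z * (D + 1) ^ 2 * (Z + 1) := Nat.mul_le_mul_right _ key
      _ = G * Z * (Z + 1) * (D + 1) ^ 2 := by ring

theorem prG_ge {q : ℕ} (hq : 2 ≤ q) {n : ℕ} (hn : 1 ≤ n) :
    q ^ (∑ i ∈ Finset.range (n + 1), i) * (q - 1) ^ 2 ≤ prG q n * q ^ 2 := by
  obtain ⟨k, rfl⟩ := Nat.exists_eq_add_of_le' hn
  have h := prG_aux hq k
  have hX : 0 < q ^ (k + 1) := Nat.pow_pos (by omega)
  refine Nat.le_of_mul_le_mul_right ?_ hX
  calc q ^ (∑ i ∈ Finset.range (k + 1 + 1), i) * (q - 1) ^ 2 * q ^ (k + 1)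
      = q ^ (∑ i ∈ Finset.range (k + 2), i) * ((q - 1) * ((q - 1) * q ^ (k + 1))) := by ring
    _ ≤ q ^ (∑ i ∈ Finset.range (k + 2), i) * ((q - 1) * ((q - 1) * q ^ (k + 1) + q)) :=
        Nat.mul_le_mul_left _ (Nat.mul_le_mul_left _ (Nat.le_add_right _ _))
    _ ≤ prG q (k + 1) * q ^ (k + 1) * q ^ 2 := h
    _ = prG q (k + 1) * q ^ 2 * q ^ (k + 1) := by ring

/-! ### unitary -/

theorem prU_even (q m : ℕ) : prU q (2 * m + 3) = prU q (2 * m + 2) * (q ^ (2 * m + 3) + 1) := by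
  unfold prU
  rw [List.range_succ, List.map_append, List.prod_append]
  have : (2 * m + 2) % 2 = 0 := by omega
  simp [this]

theorem prU_odd (q m : ℕ) : prU q (2 * m + 4) = prU q (2 * m + 3) * (q ^ (2 * m + 4) - 1) := by
  unfold prU
  rw [List.range_succ, List.map_append, List.prod_append]
  have : (2 * m + 3) % 2 = 1 := by omega
  simp [this]

theorem prU_aux {q : ℕ} (hq : 2 ≤ q) (m : ℕ) : (q + 1) ^ 2 * q ^ (2 * m ^ 2 + 5 * m) ≤ prU q (2 * m + 2) := by
  induction m with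
  | zero =>
    have : prU q (2 * 0 + 2) = (q + 1) * (q ^ 2 - 1) := by
      simp [prU, List.range_succ]
    rw [this]
    obtain ⟨d, rfl⟩ : ∃ d, q = d + 2 := ⟨q - 2, by omega⟩
    have : (d + 2) ^ 2 - 1 = (d + 3) * (d + 1) := by
      have : (d + 2) ^ 2 = (d + 3) * (d + 1) + 1 := by ring
      omega
    rw [this]
    have : (d + 2 + 1) ^ 2 * (d + 2) ^ (2 * 0 ^ 2 + 5 * 0) = (d + 3) * (d + 3) := by ring
    rw [this]
    nlinarith
  | succ m ih =>
    rw [show 2 * (m + 1) + 2 = 2 * m + 4 by ring, prU_odd, prU_even]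
    have h1 : q ^ (4 * m + 7) ≤ (q ^ (2 * m + 3) + 1) * (q ^ (2 * m + 4) - 1) := by
      have e1 : q ^ (2 * m + 4) = q * q ^ (2 * m + 3) := pow_succ' q _
      have e2 : q ^ (4 * m + 7) = q ^ (2 * m + 3) * (q * q ^ (2 * m + 3)) := by
        rw [← e1, ← pow_add]; congr 1; ring
      rw [e1, e2]
      have hX : 1 ≤ q ^ (2 * m + 3) := Nat.one_le_pow _ _ (by omega)
      generalize q ^ (2 * m + 3) = X at *
      obtain ⟨Z, hZ⟩ : ∃ Z, q * X = Z + 1 := ⟨q * X - 1, by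
        have : 1 ≤ q * X := Nat.one_le_iff_ne_zero.2 (Nat.mul_ne_zero (by omega) (by omega))
        omega⟩
      rw [hZ, Nat.add_sub_cancel]
      have : X ≤ Z := by nlinarith
      nlinarith
    have e3 : q ^ (2 * (m + 1) ^ 2 + 5 * (m + 1)) = q ^ (2 * m ^ 2 + 5 * m) * q ^ (4 * m + 7) := by
      rw [← pow_add]; congr 1; ring
    rw [e3, ← mul_assoc, mul_assoc (prU q (2 * m + 2))]
    exact Nat.mul_le_mul ih h1

theorem prU_ge' {q : ℕ} (hq : 2 ≤ q) {n : ℕ} (hn : 2 ≤ n) :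
    (q + 1) ^ 2 * q ^ (∑ i ∈ Finset.range (n + 1), i) ≤ prU q n * q ^ 3 := by
  have hsum : ∀ m : ℕ, ∑ i ∈ Finset.range (2 * m + 2 + 1), i = 2 * m ^ 2 + 5 * m + 3 := by
    intro m
    rw [Finset.sum_range_id]
    have : (2 * m + 2 + 1) * (2 * m + 2 + 1 - 1) = (2 * m ^ 2 + 5 * m + 3) * 2 := by
      rw [Nat.add_sub_cancel]; ring
    rw [this, Nat.mul_div_cancel _ (by norm_num)]
  rcases Nat.even_or_odd' n with ⟨k, rfl | rfl⟩
  · obtain ⟨m, rfl⟩ : ∃ m, k = m + 1 := ⟨k - 1, by omega⟩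
    rw [show 2 * (m + 1) = 2 * m + 2 by ring, hsum, pow_add, ← mul_assoc]
    exact Nat.mul_le_mul_right _ (prU_aux hq m)
  · obtain ⟨m, rfl⟩ : ∃ m, k = m + 1 := ⟨k - 1, by omega⟩
    rw [show 2 * (m + 1) + 1 = 2 * m + 3 by ring, Finset.sum_range_succ, show 2 * m + 3 = 2 * m + 2 + 1 by ring, hsum,
      show 2 * m + 2 + 1 = 2 * m + 3 by ring, prU_even]
    have h1 := prU_aux hq m
    calc (q + 1) ^ 2 * q ^ (2 * m ^ 2 + 5 * m + 3 + (2 * m + 3))
        = ((q + 1) ^ 2 * q ^ (2 * m ^ 2 + 5 * m)) * q ^ (2 * m + 3) * q ^ 3 := by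
          rw [pow_add, pow_add]; ring
      _ ≤ prU q (2 * m + 2) * (q ^ (2 * m + 3) + 1) * q ^ 3 :=
          Nat.mul_le_mul_right _ (Nat.mul_le_mul h1 (Nat.le_succ _))

end Cfsg.Agent.H568.EP
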